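import Cfsg.Agent.Lib.Recognition.CurtisTitsA.Blk
import Cfsg.Agent.Classical.SLGen
import Mathlib

/-!
Endomorphisms of `SL₂` (odd characteristic) commuting with conjugation by `diag (1, -1)`, and their
extension to `SL₃`.
-/

set_option autoImplicit false

namespace CfsgLib.CurtisTitsA

open Matrix

variable {F : Type*} [Field F]

/-- The upper root element. -/
def up (x : F) : SLG (Fin 2) F := ⟨!![1, x; 0, 1], by simp [det_fin_two]⟩

/-- The lower root element. -/
def low (x : F) : SLG (Fin 2) F := ⟨!![1, 0; x, 1], by simp [det_fin_two]⟩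

theorem up_val (x : F) : (up x).1 = !![1, x; 0, 1] := rfl
theorem low_val (x : F) : (low x).1 = !![1, 0; x, 1] := rfl

theorem up_add (x y : F) : up (x + y) = up x * up y := by
  apply Subtype.ext
  simp only [val_mul, up_val, mul_fin_two]
  simp [add_comm]

theorem low_add (x y : F) : low (x + y) = low x * low y := by
  apply Subtype.ext
  simp only [val_mul, low_val, mul_fin_two]
  simp

theorem up_zero : up (0 : F) = 1 := by
  apply Subtype.ext; simp [up_val, val_one, one_fin_two]

theorem low_zero : low (0 : F) = 1 := by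
  apply Subtype.ext; simp [low_val, val_one, one_fin_two]

theorem up_inv (x : F) : (up x)⁻¹ = up (-x) :=
  inv_eq_of_mul_eq_one_right (by rw [← up_add, add_neg_cancel, up_zero])

theorem low_inv (x : F) : (low x)⁻¹ = low (-x) :=
  inv_eq_of_mul_eq_one_right (by rw [← low_add, add_neg_cancel, low_zero])

theorem up_injective : Function.Injective (up (F := F)) := fun x y h => by
  simpa [up_val] using congrArg (fun m : SLG (Fin 2) F => m.1 0 1) h

theorem low_injective : Function.Injective (low (F := F)) := fun x y h => by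
  simpa [low_val] using congrArg (fun m : SLG (Fin 2) F => m.1 1 0) h

theorem up_pow (x : F) (n : ℕ) : up x ^ n = up (n * x) := by
  induction n with
  | zero => simp [up_zero]
  | succ n ih => rw [pow_succ, ih, ← up_add]; congr 1; push_cast; ring

theorem low_pow (x : F) (n : ℕ) : low x ^ n = low (n * x) := by
  induction n with
  | zero => simp [low_zero]
  | succ n ih => rw [pow_succ, ih, ← low_add]; congr 1; push_cast; ring

theorem dual_up (x : F) : dual (up x) = low (-x) := by
  apply Subtype.ext
  rw [dual_val, up_inv, up_val, low_val]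
  ext i j
  fin_cases i <;> fin_cases j <;> simp

theorem dual_low (x : F) : dual (low x) = up (-x) := by
  apply Subtype.ext
  rw [dual_val, low_inv, up_val, low_val]
  ext i j
  fin_cases i <;> fin_cases j <;> simp

theorem gen_up_low (H : Subgroup (SLG (Fin 2) F)) (hu : ∀ x, up x ∈ H) (hl : ∀ x, low x ∈ H) :
    H = ⊤ := by
  refine Cfsg.Agent.Classical.sl_subgroup_eq_top_of_transvection_mem H fun i j hij c => ?_
  fin_cases i <;> fin_cases j
  · exact absurd rfl hij
  · convert hu c
    apply Subtype.ext
    rw [Matrix.SpecialLinearGroup.transvection_coe, up_val]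
    ext a b
    fin_cases a <;> fin_cases b <;> simp [single_apply]
  · convert hl c
    apply Subtype.ext
    rw [Matrix.SpecialLinearGroup.transvection_coe, low_val]
    ext a b
    fin_cases a <;> fin_cases b <;> simp [single_apply]
  · exact absurd rfl hij

/-- `dual` as a homomorphism. -/
def dualHom (κ : Type*) [Fintype κ] [DecidableEq κ] (F : Type*) [Field F] :
    SLG κ F →* SLG κ F :=
  MonoidHom.mk' dual dual_mul

theorem dualHom_apply {κ : Type*} [Fintype κ] [DecidableEq κ] (g : SLG κ F) :
    dualHom κ F g = dual g := rfl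

/-- Conjugation by `diag (1, -1)`. -/
def tau : SLG (Fin 2) F →* SLG (Fin 2) F := twist (RingHom.id F) ![1, -1]

theorem tau_apply (g : SLG (Fin 2) F) :
    (tau g).1 = !![g.1 0 0, -g.1 0 1; -g.1 1 0, g.1 1 1] := by
  ext i j
  rw [tau, twist_apply]
  fin_cases i <;> fin_cases j <;> simp

theorem tau_up (x : F) : tau (up x) = up (-x) := by
  apply Subtype.ext; rw [tau_apply]; simp [up_val]

theorem tau_low (x : F) : tau (low x) = low (-x) := by
  apply Subtype.ext; rw [tau_apply]; simp [low_val]

theorem tau_dual (g : SLG (Fin 2) F) : tau (dual g) = dual (tau g) := by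
  have h : (tau : SLG (Fin 2) F →* _).comp (dualHom (Fin 2) F) = (dualHom (Fin 2) F).comp tau := by
    refine MonoidHom.eq_of_eqOn_dense (s := Set.range up ∪ Set.range low) ?_ ?_
    · exact gen_up_low _ (fun x => Subgroup.subset_closure (Or.inl ⟨x, rfl⟩))
        (fun x => Subgroup.subset_closure (Or.inr ⟨x, rfl⟩))
    · rintro g (⟨x, rfl⟩ | ⟨x, rfl⟩)
      · simp [dualHom_apply, tau_up, dual_up, tau_low]
      · simp [dualHom_apply, tau_up, dual_low, tau_low]
  exact DFunLike.congr_fun h g

variable {p : ℕ} [hp : Fact p.Prime] [hchar : CharP F p]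

theorem up_pow_char (x : F) : up x ^ p = 1 := by
  rw [up_pow, CharP.cast_eq_zero, zero_mul, up_zero]

theorem low_pow_char (x : F) : low x ^ p = 1 := by
  rw [low_pow, CharP.cast_eq_zero, zero_mul, low_zero]

/-- The elements of order `p` inverted by `diag (1, -1)` are root elements. -/
theorem root_of_inverted (h2 : (2 : F) ≠ 0) {u : SLG (Fin 2) F} (hu : u ^ p = 1)
    (ht : tau u = u⁻¹) : (∃ a, u = up a) ∨ ∃ b, u = low b := by
  have hnil : IsNilpotent (u.1 - 1) := ⟨p, by
    rw [sub_pow_char_of_commute (p := p) (h := Commute.one_right _), one_pow]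
    rw [show u.1 ^ p = (u ^ p).1 from (Matrix.SpecialLinearGroup.coe_pow u p).symm, hu, val_one, sub_self]⟩
  have htr : u.1 0 0 + u.1 1 1 = 2 := by
    have := (Matrix.isNilpotent_trace_of_isNilpotent hnil).eq_zero
    rw [trace_fin_two, Matrix.sub_apply, Matrix.sub_apply, one_apply_eq, one_apply_eq] at this
    linear_combination this
  have h00 : u.1 0 0 = u.1 1 1 := by
    have := congrArg (fun m : SLG (Fin 2) F => m.1 0 0) ht
    simpa [tau_apply, Matrix.SpecialLinearGroup.coe_inv, adjugate_fin_two] using this
  have h0 : u.1 0 0 = 1 := mul_left_cancel₀ h2 (by linear_combination htr + h00)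
  have h1 : u.1 1 1 = 1 := h00 ▸ h0
  have hd : u.1 0 1 * u.1 1 0 = 0 := by
    have := u.2
    rw [det_fin_two, h0, h1] at this
    linear_combination -this
  rcases mul_eq_zero.1 hd with h | h
  · right
    refine ⟨u.1 1 0, Subtype.ext ?_⟩
    rw [low_val]
    ext i j
    fin_cases i <;> fin_cases j <;> simp [h0, h1, h]
  · left
    refine ⟨u.1 0 1, Subtype.ext ?_⟩
    rw [up_val]
    ext i j
    fin_cases i <;> fin_cases j <;> simp [h0, h1, h]

/-- An endomorphism preserving both root groups is a twist. -/
theorem eq_twist_of_preserves (h2 : (2 : F) ≠ 0) (β : SLG (Fin 2) F →* SLG (Fin 2) F)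
    (f g : F → F) (hf : ∀ x, β (up x) = up (f x)) (hg : ∀ x, β (low x) = low (g x))
    (hinj : Function.Injective β) :
    ∃ (σ : F →+* F) (c : Fˣ), β = twist σ ![c, 1] := by
  have hfadd : ∀ x y, f (x + y) = f x + f y := fun x y => up_injective (by
    rw [← hf, up_add, map_mul, hf, hf, ← up_add])
  have hfinj : Function.Injective f := fun x y h => up_injective (hinj (by rw [hf, hf, h]))
  have hf0 : f 0 = 0 := by have := hfadd 0 0; rw [add_zero] at this; exact left_eq_add.1 this
  have hfneg : ∀ x, f (-x) = -f x := fun x =>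
    eq_neg_of_add_eq_zero_left (by rw [← hfadd, neg_add_cancel, hf0])
  have hfne : ∀ x, x ≠ 0 → f x ≠ 0 := fun x hx e => hx (hfinj (e.trans hf0.symm))
  have hb : ∀ t : F, t ≠ 0 → g (-t⁻¹) = -(f t)⁻¹ := by
    intro t ht
    have e : (up t * low (-t⁻¹) * up t) * up 1 =
        low (-(t⁻¹ * t⁻¹)) * (up t * low (-t⁻¹) * up t) := by
      apply Subtype.ext
      simp only [val_mul, up_val, low_val, mul_fin_two]
      ext i j
      fin_cases i <;> fin_cases j <;> simp <;> field_simp <;> ring_nf <;> simp
    have e' := congrArg β e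
    simp only [map_mul, hf, hg] at e'
    have h01 := congrArg (fun m : SLG (Fin 2) F => m.1 0 1) e'
    simp [val_mul, up_val, low_val, mul_fin_two] at h01
    have key : 1 + f t * g (-t⁻¹) = 0 := by
      rcases h01 with h | h
      · exact h
      · exact absurd h (hfne 1 one_ne_zero)
    have := hfne t ht
    generalize g (-t⁻¹) = G at key ⊢
    field_simp
    linear_combination key
  have hM : ∀ t : F, t ≠ 0 → (β (up t * low (-t⁻¹) * up t)).1 = !![0, f t; -(f t)⁻¹, 0] := by
    intro t ht
    simp only [map_mul, hf, hg, hb t ht, val_mul, up_val, low_val, mul_fin_two]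
    have := hfne t ht
    ext i j
    fin_cases i <;> fin_cases j <;> simp <;> field_simp <;> ring_nf <;> simp
  have hf1 := hfne 1 one_ne_zero
  have hsq : ∀ t x : F, f (t * t * x) * (f 1 * f 1) = f t * f t * f x := by
    intro t x
    by_cases ht : t = 0
    · subst ht; simp [hf0]
    have e : (up t * low (-t⁻¹) * up t) * (up (-1) * low (-(-1 : F)⁻¹) * up (-1)) * up x =
        up (t * t * x) *
          ((up t * low (-t⁻¹) * up t) * (up (-1) * low (-(-1 : F)⁻¹) * up (-1))) := by
      apply Subtype.ext
      simp only [val_mul, up_val, low_val, mul_fin_two]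
      ext i j
      fin_cases i <;> fin_cases j <;> simp <;> field_simp <;> ring_nf <;> simp
    have e' := congrArg (fun m => (β m).1 0 1) e
    simp only [map_mul β _ (up x), map_mul β (up (t * t * x)), hf, map_mul β (up t * low (-t⁻¹) * up t),
      val_mul, hM t ht, hM (-1) (neg_ne_zero.2 one_ne_zero), up_val, mul_fin_two] at e'
    have := hfne t ht
    simp [hfneg] at e'
    generalize f (t * t * x) = A at e' ⊢
    field_simp at e'
    linear_combination -e'
  set s : F → F := fun x => f x / f 1 with hs
  have hs1 : s 1 = 1 := div_self hf1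
  have hsadd : ∀ x y, s (x + y) = s x + s y := fun x y => by simp [hs, hfadd, add_div]
  have hssq : ∀ t, s (t * t) = s t * s t := fun t => by
    have := hsq t 1
    rw [mul_one] at this
    simp only [hs]
    generalize f (t * t) = A at this ⊢
    field_simp
    apply mul_left_cancel₀ hf1
    linear_combination this
  have hsmul : ∀ x y, s (x * y) = s x * s y := fun x y => by
    have h := hssq (x + y)
    rw [show (x + y) * (x + y) = x * x + y * y + (x * y + x * y) by ring, hsadd, hsadd, hsadd,
      hsadd x y, hssq, hssq] at h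
    exact mul_left_cancel₀ h2 (by linear_combination h)
  let σ : F →+* F :=
    { toFun := s
      map_one' := hs1
      map_mul' := hsmul
      map_zero' := by simp [hs, hf0]
      map_add' := hsadd }
  refine ⟨σ, Units.mk0 _ hf1, MonoidHom.eq_of_eqOn_dense (s := Set.range up ∪ Set.range low)
    (gen_up_low _ (fun x => Subgroup.subset_closure (Or.inl ⟨x, rfl⟩))
      (fun x => Subgroup.subset_closure (Or.inr ⟨x, rfl⟩))) ?_⟩
  rintro _ (⟨x, rfl⟩ | ⟨y, rfl⟩)
  · rw [hf]
    apply Subtype.ext
    ext i j
    rw [twist_apply]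
    fin_cases i <;> fin_cases j <;> simp [up_val, hf1]
    show f x = f 1 * (f x / f 1)
    field_simp
  · rw [hg]
    apply Subtype.ext
    ext i j
    rw [twist_apply]
    fin_cases i <;> fin_cases j <;> simp [low_val, hf1]
    show g y = s y * (f 1)⁻¹
    by_cases hy : y = 0
    · subst hy
      have : g 0 = 0 := low_injective (by rw [← hg, low_zero, map_one])
      simp [this, hs, hf0]
    · have hb' := hb (-y⁻¹) (neg_ne_zero.2 (inv_ne_zero hy))
      rw [show -(-y⁻¹)⁻¹ = y by field_simp, hfneg, inv_neg, neg_neg] at hb'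
      have hyy : s y⁻¹ * s y = 1 := by rw [← hsmul, inv_mul_cancel₀ hy, hs1]
      have hfy : f y⁻¹ = f 1 * s y⁻¹ := by simp only [hs]; field_simp
      rw [hb', hfy, mul_inv, eq_inv_of_mul_eq_one_right hyy, mul_comm]

include hp hchar in
/-- The classification of endomorphisms commuting with `tau`. -/
theorem exists_twist (h2 : (2 : F) ≠ 0) (β : SLG (Fin 2) F →* SLG (Fin 2) F)
    (hinj : Function.Injective β) (ht : ∀ g, β (tau g) = tau (β g)) :
    ∃ (σ : F →+* F) (c : Fˣ), β = twist σ ![c, 1] ∨
      β = (dualHom (Fin 2) F).comp (twist σ ![c, 1]) := by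
  suffices h : ∀ β : SLG (Fin 2) F →* SLG (Fin 2) F, Function.Injective β →
      (∀ g, β (tau g) = tau (β g)) → (∃ a, β (up 1) = up a) →
        ∃ (σ : F →+* F) (c : Fˣ), β = twist σ ![c, 1] by
    rcases root_of_inverted h2 (u := β (up 1)) (p := p) (by rw [← map_pow, up_pow_char, map_one])
      (by rw [← ht, tau_up, ← up_inv, map_inv]) with ha | ⟨b, hb⟩
    · obtain ⟨σ, c, e⟩ := h β hinj ht ha
      exact ⟨σ, c, Or.inl e⟩
    · obtain ⟨σ, c, e⟩ := h ((dualHom (Fin 2) F).comp β)
        (fun x y e => hinj (by
          have := congrArg dual e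
          simpa [dualHom_apply, dual_dual] using this))
        (fun g => by simp only [MonoidHom.comp_apply, dualHom_apply, ht, tau_dual])
        ⟨-b, by rw [MonoidHom.comp_apply, hb, dualHom_apply, dual_low]⟩
      refine ⟨σ, c, Or.inr ?_⟩
      rw [← e]
      ext g : 1
      simp [dualHom_apply, dual_dual]
  clear hinj ht β
  intro β hinj ht ha
  obtain ⟨a, ha⟩ := ha
  have ha0 : a ≠ 0 := by
    rintro rfl
    rw [up_zero, ← map_one β, ← up_zero] at ha
    exact one_ne_zero (up_injective (hinj ha))
  have hroot : ∀ u, u ^ p = 1 → tau u = u⁻¹ → (∃ a, β u = up a) ∨ ∃ b, β u = low b :=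
    fun u h1 h3 => root_of_inverted h2 (p := p) (by rw [← map_pow, h1, map_one])
      (by rw [← ht, h3, map_inv])
  have hup : ∀ x, ∃ y, β (up x) = up y := by
    intro x
    rcases hroot _ (up_pow_char (p := p) x) (by rw [tau_up, up_inv]) with h | ⟨b, hb⟩
    · exact h
    refine ⟨0, ?_⟩
    have e := (map_mul β (up 1) (up x)).symm
    rw [← up_add, add_comm, up_add, map_mul, hb, ha] at e
    have := congrArg (fun m : SLG (Fin 2) F => m.1 0 0) e
    simp [val_mul, up_val, low_val, mul_fin_two, ha0] at this
    rw [hb, this, low_zero, up_zero]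
  have hlow : ∀ x, ∃ y, β (low x) = low y := by
    intro x
    rcases hroot _ (low_pow_char (p := p) x) (by rw [tau_low, low_inv]) with ⟨c, hc⟩ | h
    · refine ⟨0, ?_⟩
      have e : β (low x * up 1) = β (up 1 * low x) := by
        rw [map_mul, map_mul, hc, ha, ← up_add, ← up_add, add_comm]
      have := congrArg (fun m : SLG (Fin 2) F => m.1 0 0) (hinj e)
      simp [val_mul, up_val, low_val, mul_fin_two] at this
      rw [this, low_zero, map_one]
    · exact h
  choose f hf using hup
  choose g hg using hlow
  exact eq_twist_of_preserves h2 β f g hf hg hinj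

/-- Elements that are diagonal with entries `±1`. -/
def SignDiag {κ : Type*} [DecidableEq κ] [Fintype κ] (g : SLG κ F) : Prop :=
  g.1ᵀ = g.1 ∧ g * g = 1 ∧ ∀ i j, (i ≠ j → g.1 i j = 0) ∧ (g.1 i i = 1 ∨ g.1 i i = -1)

include hp hchar in
/-- Extension to `SL₃` acting in the given way on the first block. -/
theorem exists_extend_three (h2 : (2 : F) ≠ 0) (β : SLG (Fin 2) F →* SLG (Fin 2) F)
    (hinj : Function.Injective β) (ht : ∀ g, β (tau g) = tau (β g))
    (e : Fin 2 → Fin 3) (he : Function.Injective e) :
    ∃ B : SLG (Fin 3) F →* SLG (Fin 3) F, Function.Injective B ∧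
      (∀ g, B (blk e he g) = blk e he (β g)) ∧ (∀ X : Set (Fin 3), ∀ g ∈ fix X, B g ∈ fix X) ∧
      ∀ g, SignDiag g → B g = g := by
  obtain ⟨σ, c, hc⟩ := exists_twist (p := p) h2 β hinj ht
  set c' : Fin 3 → Fˣ := Function.extend e ![c, 1] 1 with hc'
  have hce : (fun a => c' (e a)) = ![c, 1] := funext fun a => he.extend_apply _ _ _
  have hfix : ∀ X : Set (Fin 3), ∀ g ∈ (fix X : Subgroup (SLG (Fin 3) F)),
      twist σ c' g ∈ fix X := by
    intro X g hg x hx
    constructor <;> funext i
    · have := congrFun (hg x hx).1 i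
      rw [mulVec_single_one, col_apply] at this ⊢
      rw [twist_apply, this]
      by_cases h : i = x <;> simp [h]
    · have := congrFun (hg x hx).2 i
      rw [single_one_vecMul, row_apply] at this ⊢
      rw [twist_apply, this]
      by_cases h : i = x <;> simp [h]
  have hdiag : ∀ g, SignDiag g → twist σ c' g = g := by
    intro g hg
    apply Subtype.ext
    ext i j
    rw [twist_apply]
    by_cases h : i = j
    · subst h
      rcases (hg.2.2 i i).2 with e | e <;> simp [e]
    · simp [(hg.2.2 i j).1 h]
  rcases hc with rfl | rfl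
  · refine ⟨twist σ c', twist_injective σ c', fun g => ?_, hfix, hdiag⟩
    rw [twist_blk, hce]
  · refine ⟨(dualHom (Fin 3) F).comp (twist σ c'), fun x y h => twist_injective σ c' ?_,
      fun g => ?_, fun X g hg => dual_mem (hfix X g hg), fun g hg => ?_⟩
    · have := congrArg dual h
      simpa [dualHom_apply, dual_dual] using this
    · simp only [MonoidHom.comp_apply, dualHom_apply]
      rw [twist_blk, hce, dual_blk]
    · simp only [MonoidHom.comp_apply, dualHom_apply]
      rw [hdiag g hg]
      apply Subtype.ext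
      rw [dual_val, inv_eq_of_mul_eq_one_right hg.2.1, hg.1]

end CfsgLib.CurtisTitsA
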