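import Cfsg.Agent.Lib.Recognition.CurtisTitsA.Fix

/-!
Block embeddings `SL_m → SL_κ` along an injective map of indices, and twists of `SL_κ` by a field
automorphism and a diagonal matrix.
-/

set_option autoImplicit false

namespace CfsgLib.CurtisTitsA

open Matrix

variable {κ μ ν : Type*} [Fintype κ] [DecidableEq κ] [Fintype μ] [DecidableEq μ] [Fintype ν]
  [DecidableEq ν] {F : Type*} [Field F]

/-- The matrix of an injection of indices. -/
def inj (e : μ → κ) : Matrix κ μ F := fun i a => if i = e a then 1 else 0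

theorem inj_comp (e : μ → κ) (e' : ν → μ) :
    (inj (F := F) e : Matrix κ μ F) * inj (F := F) e' = inj (F := F) (fun x => e (e' x)) := by
  ext i x
  simp [inj, Matrix.mul_apply]

theorem transpose_inj_mul {e : μ → κ} (he : Function.Injective e) :
    (inj (F := F) e : Matrix κ μ F)ᵀ * inj (F := F) e = 1 := by
  ext a b
  simp [inj, Matrix.mul_apply, Matrix.one_apply, he.eq_iff, eq_comm]

theorem inj_conj_apply (e : μ → κ) (g : Matrix κ κ F) (a b : μ) :
    ((inj (F := F) e : Matrix κ μ F)ᵀ * g * inj (F := F) e) a b = g (e a) (e b) := by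
  simp [inj, Matrix.mul_apply]

theorem inj_mul_apply {e : μ → κ} (he : Function.Injective e) (A : Matrix μ μ F) (a b : μ) :
    ((inj (F := F) e : Matrix κ μ F) * A * (inj (F := F) e)ᵀ) (e a) (e b) = A a b := by
  simp [inj, Matrix.mul_apply, he.eq_iff]

theorem inj_mul_apply_left {e : μ → κ} (A : Matrix μ μ F) {i : κ} (hi : i ∉ Set.range e) (j : κ) :
    ((inj (F := F) e : Matrix κ μ F) * A * (inj (F := F) e)ᵀ) i j = 0 := by
  have : ∀ a, i ≠ e a := fun a h => hi ⟨a, h.symm⟩
  simp [inj, Matrix.mul_apply, this]

theorem inj_mul_apply_right {e : μ → κ} (A : Matrix μ μ F) (i : κ) {j : κ} (hj : j ∉ Set.range e) :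
    ((inj (F := F) e : Matrix κ μ F) * A * (inj (F := F) e)ᵀ) i j = 0 := by
  have : ∀ a, j ≠ e a := fun a h => hj ⟨a, h.symm⟩
  simp [inj, Matrix.mul_apply, this]

/-- The block embedding along an injection of indices. -/
def blk (e : μ → κ) (he : Function.Injective e) : SLG μ F →* SLG κ F where
  toFun g := ⟨1 + inj (F := F) e * (g.1 - 1) * (inj (F := F) e)ᵀ, by
    rw [Matrix.mul_assoc, det_one_add_mul_comm, Matrix.mul_assoc, transpose_inj_mul he,
      Matrix.mul_one, add_sub_cancel, g.2]⟩
  map_one' := Subtype.ext (by simp [val_one])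
  map_mul' g h := Subtype.ext (by
    show 1 + inj (F := F) e * ((g * h).1 - 1) * (inj (F := F) e)ᵀ =
      (1 + inj (F := F) e * (g.1 - 1) * (inj (F := F) e)ᵀ) * (1 + inj (F := F) e * (h.1 - 1) * (inj (F := F) e)ᵀ)
    have key : inj (F := F) e * (g.1 - 1) * (inj (F := F) e)ᵀ * (inj (F := F) e * (h.1 - 1) * (inj (F := F) e)ᵀ) =
        inj (F := F) e * ((g.1 - 1) * (h.1 - 1)) * (inj (F := F) e : Matrix κ μ F)ᵀ := by
      simp only [Matrix.mul_assoc]
      rw [← Matrix.mul_assoc (inj (F := F) e : Matrix κ μ F)ᵀ (inj (F := F) e), transpose_inj_mul he, Matrix.one_mul]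
    have e1 : (g * h).1 - 1 = (g.1 - 1) + (h.1 - 1) + (g.1 - 1) * (h.1 - 1) := by
      rw [val_mul, sub_mul, mul_sub, mul_one, one_mul]; abel
    rw [e1, Matrix.mul_add, Matrix.mul_add, Matrix.add_mul, Matrix.add_mul, mul_add, mul_one,
      add_mul, one_mul, key]
    abel)

theorem blk_val (e : μ → κ) (he : Function.Injective e) (g : SLG μ F) :
    (blk e he g).1 = 1 + inj (F := F) e * (g.1 - 1) * (inj (F := F) e)ᵀ := rfl

theorem blk_apply (e : μ → κ) (he : Function.Injective e) (g : SLG μ F) (a b : μ) :
    (blk e he g).1 (e a) (e b) = g.1 a b := by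
  rw [blk_val, Matrix.add_apply, inj_mul_apply he, Matrix.sub_apply, Matrix.one_apply,
    Matrix.one_apply]
  simp [he.eq_iff]

theorem blk_injective (e : μ → κ) (he : Function.Injective e) :
    Function.Injective (blk (F := F) e he) := fun g h hgh => by
  apply Subtype.ext
  ext a b
  rw [← blk_apply e he g, hgh, blk_apply]

theorem blk_mem (e : μ → κ) (he : Function.Injective e) (g : SLG μ F) :
    blk e he g ∈ (fix (Set.range e)ᶜ : Subgroup (SLG κ F)) := fun x hx => by
  constructor <;> funext i
  · rw [mulVec_single_one, Matrix.col_apply, blk_val, Matrix.add_apply,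
      inj_mul_apply_right _ i hx, add_zero, Matrix.one_apply]
    by_cases h : i = x <;> simp [h]
  · rw [single_one_vecMul, Matrix.row_apply, blk_val, Matrix.add_apply,
      inj_mul_apply_left _ hx i, add_zero, Matrix.one_apply]
    by_cases h : i = x <;> simp [h, Ne.symm]

/-- The restriction of an element of `fix (range e)ᶜ` to the block. -/
theorem exists_blk {e : μ → κ} (he : Function.Injective e) {g : SLG κ F}
    (hg : g ∈ (fix (Set.range e)ᶜ : Subgroup (SLG κ F))) : ∃ h : SLG μ F, blk e he h = g := by
  set A : Matrix μ μ F := (inj (F := F) e)ᵀ * g.1 * inj (F := F) e with hA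
  have key : g.1 = 1 + inj (F := F) e * (A - 1) * (inj (F := F) e)ᵀ := by
    ext i j
    rw [Matrix.add_apply]
    by_cases hi : i ∈ Set.range e
    · by_cases hj : j ∈ Set.range e
      · obtain ⟨a, rfl⟩ := hi
        obtain ⟨b, rfl⟩ := hj
        rw [inj_mul_apply he, Matrix.sub_apply, hA, inj_conj_apply, Matrix.one_apply,
          Matrix.one_apply]
        simp [he.eq_iff]
      · rw [inj_mul_apply_right _ i hj, add_zero, Matrix.one_apply]
        have := congrFun (hg j hj).1 i
        rw [mulVec_single_one, Matrix.col_apply] at this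
        rw [this]
        by_cases h : i = j <;> simp [h]
    · rw [inj_mul_apply_left _ hi j, add_zero, Matrix.one_apply]
      have := congrFun (hg i hi).2 j
      rw [single_one_vecMul, Matrix.row_apply] at this
      rw [this]
      by_cases h : i = j <;> simp [h, Ne.symm]
  have hdet : A.det = 1 := by
    have h := g.2
    rwa [key, Matrix.mul_assoc, det_one_add_mul_comm, Matrix.mul_assoc, transpose_inj_mul he,
      Matrix.mul_one, add_sub_cancel] at h
  exact ⟨⟨A, hdet⟩, Subtype.ext key.symm⟩

theorem range_blk (e : μ → κ) (he : Function.Injective e) :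
    (blk e he).range = (fix (Set.range e)ᶜ : Subgroup (SLG κ F)) := by
  refine le_antisymm ?_ fun g hg => exists_blk he hg
  rintro _ ⟨g, rfl⟩
  exact blk_mem e he g

theorem blk_comp (e : μ → κ) (he : Function.Injective e) (e' : ν → μ)
    (he' : Function.Injective e') (g : SLG ν F) :
    blk e he (blk e' he' g) = blk (fun x => e (e' x)) (he.comp he') g := by
  apply Subtype.ext
  rw [blk_val, blk_val, blk_val, add_sub_cancel_left, ← inj_comp e e', transpose_mul]
  simp only [Matrix.mul_assoc]

theorem dual_blk (e : μ → κ) (he : Function.Injective e) (g : SLG μ F) :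
    dual (blk e he g) = blk e he (dual g) := by
  apply Subtype.ext
  rw [dual_val, ← map_inv, blk_val, blk_val, dual_val, transpose_add, transpose_one,
    transpose_mul, transpose_mul, transpose_transpose, transpose_sub, transpose_one,
    Matrix.mul_assoc]

/-- A field automorphism followed by conjugation with a diagonal matrix. -/
def twist (σ : F →+* F) (c : κ → Fˣ) : SLG κ F →* SLG κ F where
  toFun g := ⟨diagonal (fun i => (c i : F)) * g.1.map σ * diagonal (fun i => ((c i)⁻¹ : Fˣ).1), by
    rw [det_mul, det_mul, ← RingHom.mapMatrix_apply, ← RingHom.map_det, g.2, map_one, mul_one,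
      det_diagonal, det_diagonal, ← Finset.prod_mul_distrib]
    simp⟩
  map_one' := Subtype.ext (by simp [val_one, diagonal_mul_diagonal])
  map_mul' g h := Subtype.ext (by
    have e : diagonal (fun i => ((c i)⁻¹ : Fˣ).1) * diagonal (fun i => (c i : F)) = 1 := by
      simp [diagonal_mul_diagonal]
    show diagonal (fun i => (c i : F)) * (g * h).1.map σ * diagonal _ =
      (diagonal _ * g.1.map σ * diagonal _) * (diagonal _ * h.1.map σ * diagonal _)
    rw [val_mul, Matrix.map_mul]
    simp only [mul_assoc]
    rw [← mul_assoc (diagonal fun i => ((c i)⁻¹ : Fˣ).1) (diagonal fun i => (c i : F)), e,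
      one_mul])

theorem twist_apply (σ : F →+* F) (c : κ → Fˣ) (g : SLG κ F) (i j : κ) :
    (twist σ c g).1 i j = (c i : F) * σ (g.1 i j) * ((c j)⁻¹ : Fˣ).1 := by
  show (diagonal (fun i => (c i : F)) * g.1.map σ *
    diagonal (fun i => ((c i)⁻¹ : Fˣ).1) : Matrix κ κ F) i j = _
  simp [diagonal_mul, mul_diagonal]

theorem twist_injective (σ : F →+* F) (c : κ → Fˣ) : Function.Injective (twist σ c) := by
  intro g h e
  apply Subtype.ext
  ext i j
  have := congrArg (fun m : SLG κ F => m.1 i j) e
  simp only [twist_apply, mul_eq_mul_right_iff, mul_eq_mul_left_iff, Units.ne_zero, or_false] at this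
  exact σ.injective this

theorem twist_blk (σ : F →+* F) (c : κ → Fˣ) (e : μ → κ) (he : Function.Injective e)
    (g : SLG μ F) : twist σ c (blk e he g) = blk e he (twist σ (fun a => c (e a)) g) := by
  apply Subtype.ext
  ext i j
  rw [twist_apply]
  by_cases hi : i ∈ Set.range e
  · by_cases hj : j ∈ Set.range e
    · obtain ⟨a, rfl⟩ := hi
      obtain ⟨b, rfl⟩ := hj
      rw [blk_apply, blk_apply, twist_apply]
    · simp only [blk_val, Matrix.add_apply, inj_mul_apply_right _ i hj, add_zero, Matrix.one_apply]
      by_cases h : i = j <;> simp [h]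
  · simp only [blk_val, Matrix.add_apply, inj_mul_apply_left _ hi j, add_zero, Matrix.one_apply]
    by_cases h : i = j <;> simp [h]

end CfsgLib.CurtisTitsA
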