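import Mathlib.LinearAlgebra.Matrix.SpecialLinearGroup
import Mathlib.LinearAlgebra.Matrix.SchurComplement
import Mathlib.Tactic.LinearCombination
import Mathlib.Tactic.FieldSimp
import Mathlib.Tactic.Group

/-!
Matrices of determinant one fixing a set of basis vectors together with the corresponding rows.
-/

set_option autoImplicit false

namespace CfsgLib.CurtisTitsA

open Matrix

variable {κ : Type*} [Fintype κ] [DecidableEq κ] {F : Type*} [Field F]

/-- A basis vector. -/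
abbrev ee (x : κ) : κ → F := Pi.single x 1

theorem ee_same (x : κ) : (ee x : κ → F) x = 1 := Pi.single_eq_same _ _

theorem ee_ne {x y : κ} (h : y ≠ x) : (ee x : κ → F) y = 0 := Pi.single_eq_of_ne h _

/-- The special linear group on `κ`. -/
abbrev SLG (κ : Type*) [Fintype κ] [DecidableEq κ] (F : Type*) [Field F] : Type _ :=
  Matrix.SpecialLinearGroup κ F

theorem val_mul (g h : SLG κ F) : (g * h).1 = g.1 * h.1 := rfl

theorem val_one : (1 : SLG κ F).1 = (1 : Matrix κ κ F) := rfl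

theorem mul_inv_val (g : SLG κ F) : g.1 * (g⁻¹).1 = 1 := by rw [← val_mul, mul_inv_cancel, val_one]

theorem inv_mul_val (g : SLG κ F) : (g⁻¹).1 * g.1 = 1 := by rw [← val_mul, inv_mul_cancel, val_one]

/-- Elements fixing the columns and rows indexed by `X`. -/
def fix (X : Set κ) : Subgroup (SLG κ F) where
  carrier := {g | ∀ x ∈ X, g.1 *ᵥ ee x = ee x ∧ ee x ᵥ* g.1 = ee x}
  one_mem' := fun x _ => ⟨one_mulVec _, vecMul_one _⟩
  mul_mem' := fun {g h} hg hh x hx => by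
    constructor
    · rw [val_mul, ← mulVec_mulVec, (hh x hx).1, (hg x hx).1]
    · rw [val_mul, ← vecMul_vecMul, (hg x hx).2, (hh x hx).2]
  inv_mem' := fun {g} hg x hx => by
    constructor
    · nth_rewrite 1 [← (hg x hx).1]
      rw [mulVec_mulVec, inv_mul_val, one_mulVec]
    · nth_rewrite 1 [← (hg x hx).2]
      rw [vecMul_vecMul, mul_inv_val, vecMul_one]

theorem mem_fix {X : Set κ} {g : SLG κ F} :
    g ∈ fix X ↔ ∀ x ∈ X, g.1 *ᵥ ee x = ee x ∧ ee x ᵥ* g.1 = ee x := Iff.rfl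

theorem fix_anti {X Y : Set κ} (h : X ⊆ Y) : (fix Y : Subgroup (SLG κ F)) ≤ fix X :=
  fun _ hg x hx => hg x (h hx)

theorem mem_fix_insert {X : Set κ} {g : SLG κ F} {b : κ} :
    g ∈ fix (insert b X) ↔ (g.1 *ᵥ ee b = ee b ∧ ee b ᵥ* g.1 = ee b) ∧ g ∈ fix X := by
  simp [mem_fix]

/-- A vector vanishing on `X`. -/
def Off (X : Set κ) (u : κ → F) : Prop := ∀ x ∈ X, u x = 0

theorem off_ee {X : Set κ} {b : κ} (hb : b ∉ X) : Off X (ee b : κ → F) := fun x hx => by
  exact ee_ne fun e => hb (e ▸ hx)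

theorem Off.smul {X : Set κ} {u : κ → F} (h : Off X u) (t : F) : Off X (t • u) := fun x hx => by
  simp [h x hx]

theorem Off.add {X : Set κ} {u v : κ → F} (h : Off X u) (h' : Off X v) : Off X (u + v) :=
  fun x hx => by simp [h x hx, h' x hx]

theorem Off.neg {X : Set κ} {u : κ → F} (h : Off X u) : Off X (-u) := fun x hx => by
  simp [h x hx]

theorem Off.mono {X Y : Set κ} {u : κ → F} (h : Off Y u) (hXY : X ⊆ Y) : Off X u :=
  fun x hx => h x (hXY hx)

theorem off_mulVec {X : Set κ} {g : SLG κ F} (hg : g ∈ fix X) {u : κ → F} (hu : Off X u) :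
    Off X (g.1 *ᵥ u) := fun x hx => by
  rw [← single_one_dotProduct x (g.1 *ᵥ u), dotProduct_mulVec, (hg x hx).2, single_one_dotProduct]
  exact hu x hx

theorem off_vecMul {X : Set κ} {g : SLG κ F} (hg : g ∈ fix X) {u : κ → F} (hu : Off X u) :
    Off X (u ᵥ* g.1) := fun x hx => by
  rw [← dotProduct_single_one (u ᵥ* g.1) x, ← dotProduct_mulVec, (hg x hx).1, dotProduct_single_one]
  exact hu x hx

/-- The transvection `1 + u ⊗ r`. -/
def tv (u r : κ → F) (h : r ⬝ᵥ u = 0) : SLG κ F :=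
  ⟨1 + vecMulVec u r, by
    rw [vecMulVec_eq Unit, det_one_add_replicateCol_mul_replicateRow, h, add_zero]⟩

theorem tv_val (u r : κ → F) (h : r ⬝ᵥ u = 0) : (tv u r h).1 = 1 + vecMulVec u r := rfl

theorem tv_mulVec (u r : κ → F) (h : r ⬝ᵥ u = 0) (v : κ → F) :
    (tv u r h).1 *ᵥ v = v + (r ⬝ᵥ v) • u := by
  rw [tv_val, add_mulVec, one_mulVec, vecMulVec_mulVec]
  simp

theorem vecMul_tv (u r : κ → F) (h : r ⬝ᵥ u = 0) (v : κ → F) :
    v ᵥ* (tv u r h).1 = v + (v ⬝ᵥ u) • r := by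
  rw [tv_val, vecMul_add, vecMul_one, vecMul_vecMulVec]

theorem tv_congr {u u' r r' : κ → F} {h : r ⬝ᵥ u = 0} {h' : r' ⬝ᵥ u' = 0}
    (e : vecMulVec u r = vecMulVec u' r') : tv u r h = tv u' r' h' :=
  Subtype.ext (by rw [tv_val, tv_val, e])

theorem tv_eq_one {u r : κ → F} {h : r ⬝ᵥ u = 0} (e : vecMulVec u r = 0) : tv u r h = 1 :=
  Subtype.ext (by rw [tv_val, e, add_zero, val_one])

theorem tv_mem {X : Set κ} {u r : κ → F} (h : r ⬝ᵥ u = 0) (hu : Off X u) (hr : Off X r) :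
    tv u r h ∈ fix X := fun x hx => by
  constructor
  · rw [tv_mulVec, dotProduct_single_one, hr x hx, zero_smul, add_zero]
  · rw [vecMul_tv, single_one_dotProduct, hu x hx, zero_smul, add_zero]

theorem tv_mul_left {u u' r : κ → F} (h : r ⬝ᵥ u = 0) (h' : r ⬝ᵥ u' = 0) :
    tv u r h * tv u' r h' = tv (u + u') r (by rw [dotProduct_add, h, h', add_zero]) := by
  apply Subtype.ext
  rw [val_mul, tv_val, tv_val, tv_val, add_vecMulVec, mul_add, mul_one, add_mul, one_mul,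
    vecMulVec_mul_vecMulVec, h', zero_smul, vecMulVec_zero, add_zero, add_assoc]

theorem tv_conj (g : SLG κ F) {u r : κ → F} (h : r ⬝ᵥ u = 0) :
    g * tv u r h * g⁻¹ = tv (g.1 *ᵥ u) (r ᵥ* (g⁻¹).1) (by
      rw [← dotProduct_mulVec, mulVec_mulVec, inv_mul_val, one_mulVec, h]) := by
  apply Subtype.ext
  rw [val_mul, val_mul, tv_val, tv_val, mul_add, mul_one, add_mul, mul_inv_val, mul_vecMulVec,
    vecMulVec_mul]

theorem tv_inv {u r : κ → F} (h : r ⬝ᵥ u = 0) :
    (tv u r h)⁻¹ = tv (-u) r (by rw [dotProduct_neg, h, neg_zero]) := by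
  refine inv_eq_of_mul_eq_one_right ?_
  rw [tv_mul_left]
  exact tv_eq_one (by simp)

/-- Inverse transpose. -/
def dual (g : SLG κ F) : SLG κ F := Matrix.SpecialLinearGroup.transpose g⁻¹

theorem dual_val (g : SLG κ F) : (dual g).1 = ((g⁻¹).1)ᵀ := rfl

theorem dual_mul (g h : SLG κ F) : dual (g * h) = dual g * dual h := by
  apply Subtype.ext
  rw [val_mul, dual_val, dual_val, dual_val, _root_.mul_inv_rev, val_mul, transpose_mul]

theorem dual_dual (g : SLG κ F) : dual (dual g) = g := by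
  apply Subtype.ext
  have h1 : dual g * dual g⁻¹ = 1 := by
    rw [← dual_mul, mul_inv_cancel]
    apply Subtype.ext
    rw [dual_val, inv_one, val_one, transpose_one]
  rw [dual_val, inv_eq_of_mul_eq_one_right h1, dual_val, inv_inv, transpose_transpose]

theorem dual_mem {X : Set κ} {g : SLG κ F} (hg : g ∈ fix X) : dual g ∈ fix X := fun x hx => by
  have h := inv_mem hg x hx
  rw [dual_val, mulVec_transpose, vecMul_transpose]
  exact ⟨h.2, h.1⟩

theorem dual_tv {u r : κ → F} (h : r ⬝ᵥ u = 0) :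
    dual (tv u r h) = tv (-r) u (by rw [dotProduct_neg, dotProduct_comm, h, neg_zero]) := by
  apply Subtype.ext
  rw [dual_val, tv_inv, tv_val, tv_val, transpose_add, transpose_one, transpose_vecMulVec,
    vecMulVec_neg, neg_vecMulVec]

theorem exists_col_aux {X : Set κ} {b i : κ} (hbX : b ∉ X) (hib : i ≠ b) {w : κ → F}
    (hw : Off X w) (hwi : w i ≠ 0) : ∃ g ∈ fix X, g.1 *ᵥ ee b = w := by
  have hiX : i ∉ X := fun h => hwi (hw i h)
  set c0 : F := (1 - w b) / w i with hc0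
  have h1 : (ee i : κ → F) ⬝ᵥ (c0 • ee b) = 0 := by
    rw [dotProduct_smul, single_one_dotProduct, ee_ne hib, smul_zero]
  set w' := (tv (c0 • ee b) (ee i) h1).1 *ᵥ w with hw'
  have hw'b : w' b = 1 := by
    rw [hw', tv_mulVec, Pi.add_apply, Pi.smul_apply, single_one_dotProduct, Pi.smul_apply,
      ee_same, smul_eq_mul, smul_eq_mul, hc0]
    field_simp
    ring
  have hm1 := tv_mem h1 ((off_ee hbX).smul c0) (off_ee hiX)
  have h2 : (ee b : κ → F) ⬝ᵥ (w' - ee b) = 0 := by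
    rw [dotProduct_sub, single_one_dotProduct, single_one_dotProduct, hw'b, ee_same,
      sub_self]
  have hm2 : tv (w' - ee b) (ee b) h2 ∈ fix X := by
    refine tv_mem h2 ?_ (off_ee hbX)
    rw [sub_eq_add_neg]
    exact (off_mulVec hm1 hw).add (off_ee hbX).neg
  refine ⟨_, mul_mem (inv_mem hm1) hm2, ?_⟩
  rw [val_mul, ← mulVec_mulVec, tv_mulVec, dotProduct_single_one, ee_same, one_smul,
    add_sub_cancel, hw', mulVec_mulVec, inv_mul_val, one_mulVec]

/-- `fix X` is transitive on nonzero vectors vanishing on `X`. -/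
theorem exists_col {X : Set κ} {a b : κ} (haX : a ∉ X) (hbX : b ∉ X) (hab : a ≠ b) {w : κ → F}
    (hw : Off X w) (hw0 : w ≠ 0) : ∃ g ∈ fix X, g.1 *ᵥ ee b = w := by
  by_cases h : ∃ i, i ≠ b ∧ w i ≠ 0
  · obtain ⟨i, hi, hi'⟩ := h
    exact exists_col_aux hbX hi hw hi'
  push Not at h
  have h1 : (ee b : κ → F) ⬝ᵥ ee a = 0 := by
    rw [single_one_dotProduct, ee_ne hab.symm]
  have hm := tv_mem h1 (off_ee haX) (off_ee hbX)
  have hwb : w b ≠ 0 := fun e => hw0 (funext fun i => by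
    by_cases hi : i = b
    · rw [hi, e]; rfl
    · exact h i hi)
  have hne : ((tv (ee a) (ee b) h1).1 *ᵥ w) a ≠ 0 := by
    rw [tv_mulVec, single_one_dotProduct, Pi.add_apply, Pi.smul_apply, ee_same,
      h a hab, zero_add, smul_eq_mul, mul_one]
    exact hwb
  obtain ⟨g, hg, hgw⟩ := exists_col_aux hbX hab (off_mulVec hm hw) hne
  refine ⟨_, mul_mem (inv_mem hm) hg, ?_⟩
  rw [val_mul, ← mulVec_mulVec, hgw, mulVec_mulVec, inv_mul_val, one_mulVec]

theorem exists_scaled {X : Set κ} {a : κ} (haX : a ∉ X) {w : κ → F} (hw : Off X w) :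
    ∃ g ∈ fix X, ∃ s : F, w = s • (g.1 *ᵥ ee a) := by
  by_cases h : ∃ i, i ≠ a ∧ w i ≠ 0
  · obtain ⟨i, hi, hi'⟩ := h
    obtain ⟨g, hg, hgw⟩ := exists_col_aux haX hi hw hi'
    exact ⟨g, hg, 1, by rw [hgw, one_smul]⟩
  push Not at h
  refine ⟨1, one_mem _, w a, ?_⟩
  rw [val_one, one_mulVec]
  funext i
  by_cases hi : i = a
  · subst hi; simp
  · simp [h i hi, hi]

theorem exists_scaled_row {X : Set κ} {a : κ} (haX : a ∉ X) {w : κ → F} (hw : Off X w) :
    ∃ g ∈ fix X, ∃ s : F, w = s • (ee a ᵥ* g.1) := by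
  obtain ⟨g, hg, s, hs⟩ := exists_scaled haX hw
  refine ⟨dual g⁻¹, dual_mem (inv_mem hg), s, ?_⟩
  rw [dual_val, inv_inv, vecMul_transpose]
  exact hs

/-- The stabilizer of a basis vector. -/
theorem stab_decomp {X : Set κ} {b : κ} (hbX : b ∉ X) {q : SLG κ F} (hq : q ∈ fix X)
    (hqb : q.1 *ᵥ ee b = ee b) :
    ∃ (r : κ → F) (hr : r ⬝ᵥ ee b = 0), Off (insert b X) r ∧
      q * (tv (ee b) r hr)⁻¹ ∈ fix (insert b X) := by
  have hrb : (ee b ᵥ* q.1 - ee b) ⬝ᵥ (ee b : κ → F) = 0 := by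
    rw [sub_dotProduct, ← dotProduct_mulVec, hqb, sub_self]
  have hr : Off (insert b X) (ee b ᵥ* q.1 - ee b) := by
    rintro x (rfl | hx)
    · rwa [dotProduct_single_one] at hrb
    · rw [Pi.sub_apply, off_vecMul hq (off_ee hbX) x hx, off_ee hbX x hx, sub_zero]
  refine ⟨_, hrb, hr, mem_fix_insert.2 ⟨⟨?_, ?_⟩, mul_mem hq (inv_mem ?_)⟩⟩
  · rw [tv_inv, val_mul, ← mulVec_mulVec, tv_mulVec, hrb, zero_smul, add_zero, hqb]
  · rw [tv_inv, val_mul, ← vecMul_vecMul, vecMul_tv, dotProduct_neg, ← dotProduct_mulVec, hqb,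
      single_one_dotProduct, ee_same]
    simp
  · exact tv_mem hrb (off_ee hbX) (hr.mono (Set.subset_insert _ _))

end CfsgLib.CurtisTitsA
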